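import Cfsg.Agent.H969.TwF.Tor
import Cfsg.Agent.S1068
import Cfsg.Agent.S1072

/-!
# The row `²F₄(q)` of S4880 (helper969)

`row_twF4` : `Hyp p n (²F₄(q)) → p = 11 ∧ n = 2`.
-/

set_option autoImplicit false
set_option linter.unusedSectionVars false

namespace Cfsg.Agent.H969.TwF

open Cfsg.Lie Cfsg.Agent.ChevStructure.FieldMap Cfsg.Agent.ChevalleyStructure.TwF4.Rel
  Cfsg.Agent.ChevalleyStructure.TwF4.TwistedFix Cfsg.Agent.Octagon.KRel Cfsg.Agent.KFacts.TwF4.Inst
  Cfsg.Agent.KFacts.TwF4 Cfsg.Agent.TitsThree.RankTwoZ Cfsg.Agent.H319.One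
  Cfsg.Agent.ChevalleyStructure.TwF4.Torus Cfsg.Agent.ChevalleyStructure.TwF4.TwGen

section Tor

variable {K : Type*} [Field K] [Finite K] [CharP K 2] {φ : K →+* K} {e : ℕ}

/-- `φ ∘ φ` is the squaring map -/
theorem phi_phi (hφ : Rln φ e) (z : Kˣ) : Units.map (φ : K →* K) (Units.map (φ : K →* K) z) = z ^ 2 := by
  rw [map_phi hφ z, map_pow, map_phi_pow hφ]

theorem phi_ne_self (hφ : Rln φ e) {z : Kˣ} (hz : z ≠ 1) : Units.map (φ : K →* K) z ≠ z := by
  intro h
  have h1 := phi_phi hφ z
  rw [h, h, pow_two] at h1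
  exact hz (mul_eq_left.1 h1.symm)

theorem phi_ne_inv (hφ : Rln φ e) {z : Kˣ} (hz : z ≠ 1) : Units.map (φ : K →* K) z ≠ z⁻¹ := by
  intro h
  have h1 := phi_phi hφ z
  rw [h, map_inv, h, inv_inv, pow_two] at h1
  exact hz (mul_eq_left.1 h1.symm)

theorem phi_ne_one (hφ : Rln φ e) {z : Kˣ} (hz : z ≠ 1) : Units.map (φ : K →* K) z ≠ 1 := by
  intro h
  have h1 := phi_phi hφ z
  rw [h, map_one] at h1
  have h2 : z = 1 := by
    have h3 := pow_e hφ z
    rw [mul_assoc, pow_mul, ← h1, one_pow] at h3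
    exact h3.symm
  exact hz h2

theorem mul_phi_eq_one (hφ : Rln φ e) (z : Kˣ) : z * Units.map (φ : K →* K) z = 1 ↔ z = 1 := by
  constructor
  · intro h
    by_contra hz
    exact phi_ne_inv hφ hz (eq_inv_of_mul_eq_one_right h)
  · rintro rfl
    rw [map_one, one_mul]

theorem val_eq {n : ℕ} {s : Fin 48} {k : ℕ} (h : s.val = k) (hk : k = n) : s.val = n := h.trans hk

/-- `fx` of `h(1, z)` is 6 -/
theorem fx_x (hφ : Rln φ e) {z : Kˣ} (hz : z ≠ 1) :
    fx ((rh K e (hT hφ 1 z) : GL WI K) : Matrix WI WI K) = 6 := by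
  have n1 := phi_ne_one hφ hz
  have n2 := phi_ne_self hφ hz
  have n3 := phi_ne_inv hφ hz
  have hE : ∀ a : ZMod 8, chE φ a 1 z = 1 ↔ (a = 0 ∨ a = 4) := by
    intro a
    have key : ∀ n : ℕ, n < 8 → (chE φ (n : ZMod 8) 1 z = 1 ↔ ((n : ZMod 8) = 0 ∨ (n : ZMod 8) = 4)) := by
      intro n hn
      interval_cases n
      · exact ⟨fun _ => Or.inl rfl, fun _ => rfl⟩
      · refine ⟨fun h => absurd h hz, fun h => absurd h (by decide)⟩
      · refine ⟨fun h => absurd ?_ n1, fun h => absurd h (by decide)⟩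
        have h2 : Units.map (φ : K →* K) z / 1 = 1 := h
        rwa [div_one] at h2
      · refine ⟨fun h => absurd ?_ hz, fun h => absurd h (by decide)⟩
        have h2 : z / Units.map (φ : K →* K) 1 = 1 := h
        rwa [map_one, div_one] at h2
      · refine ⟨fun _ => Or.inr rfl, fun _ => ?_⟩
        show (1 : Kˣ)⁻¹ = 1
        exact inv_one
      · refine ⟨fun h => absurd ?_ hz, fun h => absurd h (by decide)⟩
        have h2 : z⁻¹ = 1 := h
        exact inv_eq_one.1 h2
      · refine ⟨fun h => absurd ?_ n1, fun h => absurd h (by decide)⟩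
        have h2 : 1 / Units.map (φ : K →* K) z = 1 := h
        rw [one_div] at h2
        exact inv_eq_one.1 h2
      · refine ⟨fun h => absurd ?_ hz, fun h => absurd h (by decide)⟩
        have h2 : Units.map (φ : K →* K) 1 / z = 1 := h
        rw [map_one, one_div] at h2
        exact inv_eq_one.1 h2
    have := key a.val (ZMod.val_lt a)
    rwa [ZMod.natCast_zmod_val] at this
  rw [fx_hT hφ 1 z bx (fun _ => rfl), card_bx]
  · intro a s hs
    rw [hE a]
    have key : ∀ (a : ZMod 8) (s : Fin 48), s.val = eA a → ((a = 0 ∨ a = 4) ↔ bx (Sum.inr s) = true) := by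
      decide +kernel
    exact key a s hs
  · intro a s hs
    rw [mul_phi_eq_one hφ, hE a]
    have key : ∀ (a : ZMod 8) (s : Fin 48), s.val = eC a → ((a = 0 ∨ a = 4) ↔ bx (Sum.inr s) = true) := by
      decide +kernel
    exact key a s hs
  · intro a s hs
    have hO : chO φ a 1 z ≠ 1 := by
      have key : ∀ n : ℕ, n < 8 → chO φ (n : ZMod 8) 1 z ≠ 1 := by
        intro n hn h
        interval_cases n
        · have h2 : (1 : Kˣ) * z = 1 := h
          rw [one_mul] at h2
          exact hz h2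
        · have h2 : z * (Units.map (φ : K →* K) z / 1) = 1 := h
          rw [div_one] at h2
          exact hz ((mul_phi_eq_one hφ z).1 h2)
        · have h2 : (Units.map (φ : K →* K) z / 1) * (z / Units.map (φ : K →* K) 1) = 1 := h
          rw [map_one, div_one, div_one, mul_comm] at h2
          exact hz ((mul_phi_eq_one hφ z).1 h2)
        · have h2 : (z / Units.map (φ : K →* K) 1) * (1 : Kˣ)⁻¹ = 1 := h
          rw [map_one, div_one, inv_one, mul_one] at h2
          exact hz h2
        · have h2 : (1 : Kˣ)⁻¹ * z⁻¹ = 1 := h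
          rw [inv_one, one_mul] at h2
          exact hz (inv_eq_one.1 h2)
        · have h2 : z⁻¹ * (1 / Units.map (φ : K →* K) z) = 1 := h
          rw [one_div, ← mul_inv, inv_eq_one] at h2
          exact hz ((mul_phi_eq_one hφ z).1 h2)
        · have h2 : (1 / Units.map (φ : K →* K) z) * (Units.map (φ : K →* K) 1 / z) = 1 := h
          rw [map_one, one_div, one_div, ← mul_inv, inv_eq_one, mul_comm] at h2
          exact hz ((mul_phi_eq_one hφ z).1 h2)
        · have h2 : (Units.map (φ : K →* K) 1 / z) * (1 : Kˣ) = 1 := h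
          rw [map_one, one_div, mul_one] at h2
          exact hz (inv_eq_one.1 h2)
      have := key a.val (ZMod.val_lt a)
      rwa [ZMod.natCast_zmod_val] at this
    have key : ∀ (a : ZMod 8) (s : Fin 48), s.val = oA a → ¬ bx (Sum.inr s) = true := by
      decide +kernel
    exact ⟨fun h => absurd h hO, fun h => absurd h (key a s hs)⟩

/-- `fx` of `h(z, z)` is 4 -/
theorem fx_y (hφ : Rln φ e) {z : Kˣ} (hz : z ≠ 1) (hz2 : z ^ 2 ≠ 1) :
    fx ((rh K e (hT hφ z z) : GL WI K) : Matrix WI WI K) = 4 := by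
  have n1 := phi_ne_one hφ hz
  have n2 := phi_ne_self hφ hz
  have hE : ∀ a : ZMod 8, chE φ a z z ≠ 1 := by
    intro a
    have key : ∀ n : ℕ, n < 8 → chE φ (n : ZMod 8) z z ≠ 1 := by
      intro n hn h
      interval_cases n
      · exact hz h
      · exact hz h
      · have h2 : Units.map (φ : K →* K) z / z = 1 := h
        exact n2 (div_eq_one.1 h2)
      · have h2 : z / Units.map (φ : K →* K) z = 1 := h
        exact n2 (div_eq_one.1 h2).symm
      · have h2 : z⁻¹ = 1 := h
        exact hz (inv_eq_one.1 h2)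
      · have h2 : z⁻¹ = 1 := h
        exact hz (inv_eq_one.1 h2)
      · have h2 : z / Units.map (φ : K →* K) z = 1 := h
        exact n2 (div_eq_one.1 h2).symm
      · have h2 : Units.map (φ : K →* K) z / z = 1 := h
        exact n2 (div_eq_one.1 h2)
    have := key a.val (ZMod.val_lt a)
    rwa [ZMod.natCast_zmod_val] at this
  rw [fx_hT hφ z z bz (fun _ => rfl), card_bz]
  · intro a s hs
    have key : ∀ (a : ZMod 8) (s : Fin 48), s.val = eA a → ¬ bz (Sum.inr s) = true := by
      decide +kernel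
    exact ⟨fun h => absurd h (hE a), fun h => absurd h (key a s hs)⟩
  · intro a s hs
    rw [mul_phi_eq_one hφ]
    have key : ∀ (a : ZMod 8) (s : Fin 48), s.val = eC a → ¬ bz (Sum.inr s) = true := by
      decide +kernel
    exact ⟨fun h => absurd h (hE a), fun h => absurd h (key a s hs)⟩
  · intro a s hs
    have hO : chO φ a z z = 1 ↔ (a = 2 ∨ a = 6) := by
      have key : ∀ n : ℕ, n < 8 → (chO φ (n : ZMod 8) z z = 1 ↔ ((n : ZMod 8) = 2 ∨ (n : ZMod 8) = 6)) := by
        intro n hn
        interval_cases n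
        · refine ⟨fun h => absurd ?_ hz2, fun h => absurd h (by decide)⟩
          have h2 : z * z = 1 := h
          rwa [pow_two]
        · refine ⟨fun h => absurd ?_ n1, fun h => absurd h (by decide)⟩
          have h2 : z * (Units.map (φ : K →* K) z / z) = 1 := h
          rwa [mul_div_cancel] at h2
        · refine ⟨fun _ => Or.inl rfl, fun _ => ?_⟩
          show (Units.map (φ : K →* K) z / z) * (z / Units.map (φ : K →* K) z) = 1
          rw [div_mul_div_cancel, div_self']
        · refine ⟨fun h => absurd ?_ n1, fun h => absurd h (by decide)⟩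
          have h2 : (z / Units.map (φ : K →* K) z) * z⁻¹ = 1 := h
          rw [div_mul_eq_mul_div, mul_inv_cancel, one_div] at h2
          exact inv_eq_one.1 h2
        · refine ⟨fun h => absurd ?_ hz2, fun h => absurd h (by decide)⟩
          have h2 : z⁻¹ * z⁻¹ = 1 := h
          rw [← mul_inv, inv_eq_one] at h2
          rwa [pow_two]
        · refine ⟨fun h => absurd ?_ n1, fun h => absurd h (by decide)⟩
          have h2 : z⁻¹ * (z / Units.map (φ : K →* K) z) = 1 := h
          rw [mul_div_assoc', inv_mul_cancel, one_div] at h2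
          exact inv_eq_one.1 h2
        · refine ⟨fun _ => Or.inr rfl, fun _ => ?_⟩
          show (z / Units.map (φ : K →* K) z) * (Units.map (φ : K →* K) z / z) = 1
          rw [div_mul_div_cancel, div_self']
        · refine ⟨fun h => absurd ?_ n1, fun h => absurd h (by decide)⟩
          have h2 : (Units.map (φ : K →* K) z / z) * z = 1 := h
          rwa [div_mul_cancel] at h2
      have := key a.val (ZMod.val_lt a)
      rwa [ZMod.natCast_zmod_val] at this
    rw [hO]
    have key : ∀ (a : ZMod 8) (s : Fin 48), s.val = oA a → ((a = 2 ∨ a = 6) ↔ bz (Sum.inr s) = true) := by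
      decide +kernel
    exact key a s hs

/-- the torus elements have order `p` -/
theorem orderOf_hT (hφ : Rln φ e) {p : ℕ} (hp : p.Prime) {c d : Kˣ} (hc : c ^ p = 1) (hd : d ^ p = 1) (hd1 : d ≠ 1) :
    orderOf (hT hφ c d) = p := by
  obtain ⟨s, t, h, h0, h1⟩ := hT_spec hφ c d
  have hpw : (hT hφ c d) ^ p = 1 := by
    apply Subtype.ext
    show (hT hφ c d : GL chevF4.Idx K) ^ p = 1
    rw [h, ← map_pow]
    have e1 : ∀ k, (tc e s t) ^ k = tc e (s ^ k) (t ^ k) := by
      intro k
      funext i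
      rw [Pi.pow_apply]
      unfold tc
      fin_cases i
      · show (t ^ e) ^ k = (t ^ k) ^ e
        rw [← pow_mul, ← pow_mul, mul_comm]
      · show (s ^ e) ^ k = (s ^ k) ^ e
        rw [← pow_mul, ← pow_mul, mul_comm]
      · rfl
      · rfl
    have e2 : ∀ r k, chi ((tc e s t) ^ k) r = chi (tc e s t) r ^ k := by
      intro r k
      induction k with
      | zero => rw [pow_zero, pow_zero, chi_one]
      | succ k ih => rw [pow_succ, chi_mul, ih, pow_succ]
    rw [e1]
    refine T_eq_one hφ ?_ ?_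
    · rw [← e1, e2, h0, hc]
    · rw [← e1, e2, h1, hd]
  refine haveI : Fact p.Prime := ⟨hp⟩; orderOf_eq_prime hpw ?_
  intro h2
  have h3 := hT_re hφ c d 1 1 0
  rw [h2] at h3
  have h4 : (1 : ↥(twistedF4 K e)) * re hφ 1 1 0 * (1 : ↥(twistedF4 K e))⁻¹ = re hφ 1 1 0 := by group
  rw [h4] at h3
  have h5 := ((sys hφ).injE 1 _ _ _ _ h3).1
  rw [mul_one] at h5
  apply hd1
  apply Units.ext
  rw [Units.val_one]
  exact h5.symm

end Tor

section Main

variable {K : Type*} [Field K] [Fintype K] {m : ℕ}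

/-- `p` does not divide `q - 1` -/
theorem not_dvd_sub_one (hm : 1 ≤ m) (hK : Fintype.card K = 2 ^ (2 * m + 1)) {p n : ℕ} [hp : Fact p.Prime]
    (h : Hyp p n ↥(twistedF4 K (2 ^ m))) : ¬ p ∣ Fintype.card K - 1 := by
  intro hd
  have hch : CharP K 2 := Cfsg.Agent.ChevalleyStructure.TwF4.Twisted.charP_two hK
  obtain ⟨φ, hφ⟩ := exists_rln hK
  have h5 := h.five
  have h1 : p ∣ Nat.card Kˣ := by
    rw [Nat.card_units, Nat.card_eq_fintype_card]
    exact hd
  obtain ⟨z, hz⟩ := exists_prime_orderOf_dvd_card' p h1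
  have hz1 : z ≠ 1 := by
    rintro rfl
    rw [orderOf_one] at hz
    omega
  have hz2 : z ^ 2 ≠ 1 := by
    intro h2
    have h3 := orderOf_dvd_of_pow_eq_one h2
    rw [hz] at h3
    have := Nat.le_of_dvd (by norm_num) h3
    omega
  have hzp : z ^ p = 1 := by rw [← hz]; exact pow_orderOf_eq_one z
  obtain ⟨α, hα⟩ := h.one (hT hφ 1 z) (hT hφ z z) (orderOf_hT hφ hp.out (one_pow p) hzp hz1)
    (orderOf_hT hφ hp.out hzp hzp hz1)
  have h2 := fx_rho_aut hm hK α (hT hφ 1 z)
  rw [hα, fx_x hφ hz1, fx_y hφ hz1 hz2] at h2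
  omega

/-- the representation of degree 26 is faithful -/
theorem rh_injective [CharP K 2] (hm : 1 ≤ m) (hK : Fintype.card K = 2 ^ (2 * m + 1)) :
    Function.Injective (rh K (2 ^ m)) := by
  obtain ⟨φ, hφ⟩ := exists_rln hK
  have hs : IsSimpleGroup ↥(twistedF4 K (2 ^ m)) := (S1072.result hm hK).1
  rw [← MonoidHom.ker_eq_bot_iff]
  rcases (inferInstance : (rh K (2 ^ m)).ker.Normal).eq_bot_or_eq_top with h | h
  · exact h
  · exfalso
    have h1 : 1 < Nat.card Kˣ := by
      rw [Nat.card_units, Nat.card_eq_fintype_card, hK]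
      have : 2 ^ 3 ≤ 2 ^ (2 * m + 1) := Nat.pow_le_pow_right (by norm_num) (by omega)
      omega
    have : Nontrivial Kˣ := Finite.one_lt_card_iff_nontrivial.1 h1
    obtain ⟨z, hz⟩ := exists_ne (1 : Kˣ)
    have h2 : hT hφ 1 z ∈ (rh K (2 ^ m)).ker := by rw [h]; exact Subgroup.mem_top _
    rw [MonoidHom.mem_ker] at h2
    have h3 := fx_x hφ hz
    rw [h2, Units.val_one] at h3
    have h4 := fx_add_rank (1 : Matrix WI WI K)
    rw [h3, sub_self, Matrix.rank_zero, card_WI] at h4
    omega

/-- the dimension bound -/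
theorem bound (hm : 1 ≤ m) (hK : Fintype.card K = 2 ^ (2 * m + 1)) {p n : ℕ} [hp : Fact p.Prime]
    (h : Hyp p n ↥(twistedF4 K (2 ^ m))) :
    orderOf ((Fintype.card K : ℕ) : ZMod p) * ∑ i ∈ Finset.range n, p ^ i ≤ 26 := by
  classical
  have hch : CharP K 2 := Cfsg.Agent.ChevalleyStructure.TwF4.Twisted.charP_two hK
  by_contra hlt
  push Not at hlt
  have hfin : Finite ↥(twistedF4 K (2 ^ m)) := inferInstance
  have h5 := h.five
  refine classical_false h (rh K (2 ^ m)) (rh_injective hm hK) (MonoidHom.id _) Function.surjective_id ?_ ?_ ?_ ?_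
  · have h1 : (MonoidHom.id ↥(twistedF4 K (2 ^ m))).ker = ⊥ := (MonoidHom.ker_eq_bot_iff _).2 Function.injective_id
    rw [h1, Subgroup.card_bot]
    intro h2
    have := Nat.le_of_dvd one_pos h2
    omega
  · rw [hK]
    intro h2
    have h3 := (Nat.prime_dvd_prime_iff_eq hp.out Nat.prime_two).1 (hp.out.dvd_of_dvd_pow h2)
    omega
  · intro α x y _ _ hxy
    have h1 : α x = y := hxy
    rw [← h1, fx_rho_aut hm hK α x]
  · rw [card_WI]
    exact hlt

/-- **The row `²F₄(q)`.** -/
theorem row_twF4 (hm : 1 ≤ m) (hK : Fintype.card K = 2 ^ (2 * m + 1)) {p n : ℕ} [hp : Fact p.Prime]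
    (h : Hyp p n ↥(twistedF4 K (2 ^ m))) : p = 11 ∧ n = 2 := by
  classical
  have h5 := h.five
  have hb := bound hm hK h
  have hpK : ((Fintype.card K : ℕ) : ZMod p) ≠ 0 := by
    intro h0
    rw [ZMod.natCast_eq_zero_iff, hK] at h0
    have h3 := (Nat.prime_dvd_prime_iff_eq hp.out Nat.prime_two).1 (hp.out.dvd_of_dvd_pow h0)
    omega
  have hpos : 0 < orderOf ((Fintype.card K : ℕ) : ZMod p) := by
    rw [orderOf_pos_iff, isOfFinOrder_iff_pow_eq_one]
    exact ⟨p - 1, by omega, ZMod.pow_card_sub_one_eq_one hpK⟩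
  have hn : n = 2 := by
    have h2 := h.two
    by_contra hne
    have h3 : ∑ i ∈ Finset.range 3, p ^ i ≤ ∑ i ∈ Finset.range n, p ^ i :=
      Finset.sum_le_sum_of_subset (Finset.range_subset_range.2 (by omega))
    have h4 : ∑ i ∈ Finset.range 3, p ^ i = 1 + p + p ^ 2 := by
      rw [Finset.sum_range_succ, Finset.sum_range_succ, Finset.sum_range_one, pow_zero, pow_one]
    rw [h4] at h3
    have h6 : ∑ i ∈ Finset.range n, p ^ i ≤ orderOf ((Fintype.card K : ℕ) : ZMod p) * ∑ i ∈ Finset.range n, p ^ i :=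
      Nat.le_mul_of_pos_left _ hpos
    have h7 : 25 ≤ p ^ 2 := by
      calc 25 = 5 ^ 2 := by norm_num
        _ ≤ p ^ 2 := Nat.pow_le_pow_left h5 2
    omega
  refine ⟨?_, hn⟩
  have hp7 : p ≠ 5 := by
    intro h0
    have := h.three h0
    omega
  have hsum : ∑ i ∈ Finset.range n, p ^ i = 1 + p := by
    rw [hn, Finset.sum_range_succ, Finset.sum_range_one, pow_zero, pow_one]
  rw [hsum] at hb
  have hd1 : orderOf ((Fintype.card K : ℕ) : ZMod p) ≠ 1 := by
    intro h0
    rw [orderOf_eq_one_iff] at h0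
    apply not_dvd_sub_one hm hK h
    have h1 : 1 ≤ Fintype.card K := Fintype.card_pos
    have h2 : (((Fintype.card K - 1 : ℕ)) : ZMod p) = 0 := by
      rw [Nat.cast_sub h1, h0, Nat.cast_one, sub_self]
    exact (ZMod.natCast_eq_zero_iff _ _).1 h2
  have hp12 : p ≤ 12 := by
    by_contra hlt
    push Not at hlt
    have h1 : 2 * 14 ≤ orderOf ((Fintype.card K : ℕ) : ZMod p) * (1 + p) := Nat.mul_le_mul (by omega) (by omega)
    omega
  have hpp := hp.out
  have hp' : p = 7 ∨ p = 11 := by
    interval_cases p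
    · exact absurd rfl hp7
    · exact absurd hpp (by norm_num)
    · exact Or.inl rfl
    · exact absurd hpp (by norm_num)
    · exact absurd hpp (by norm_num)
    · exact absurd hpp (by norm_num)
    · exact Or.inr rfl
    · exact absurd hpp (by norm_num)
  rcases hp' with rfl | rfl
  · exfalso
    -- `q` modulo 7
    have h7 : 7 ∣ Nat.card ↥(twistedF4 K (2 ^ m)) :=
      (dvd_pow_self 7 (by rw [hn]; norm_num)).trans h.dvd
    rw [S1068.result hK] at h7
    have hq1 : 2 ^ (2 * m + 1) % 7 ≠ 1 := by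
      intro h0
      apply not_dvd_sub_one hm hK h
      rw [hK]
      have : 0 < 2 ^ (2 * m + 1) := by positivity
      omega
    have hq : 2 ^ (2 * m + 1) % 7 = 1 ∨ 2 ^ (2 * m + 1) % 7 = 2 ∨ 2 ^ (2 * m + 1) % 7 = 4 := by
      generalize 2 * m + 1 = k
      induction k with
      | zero => exact Or.inl rfl
      | succ k ih =>
        rw [pow_succ]
        omega
    have hpr : Nat.Prime 7 := by norm_num
    set q := 2 ^ (2 * m + 1) with hqd
    have hq0 : 1 ≤ q := Nat.one_le_two_pow
    have hq4 : 1 ≤ q ^ 4 := Nat.one_le_pow _ _ hq0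
    have e3 : q ^ 3 % 7 = (q % 7) ^ 3 % 7 := Nat.pow_mod q 3 7
    have e4 : q ^ 4 % 7 = (q % 7) ^ 4 % 7 := Nat.pow_mod q 4 7
    have e6 : q ^ 6 % 7 = (q % 7) ^ 6 % 7 := Nat.pow_mod q 6 7
    rcases hpr.dvd_mul.1 h7 with h7 | h7
    · rcases hpr.dvd_mul.1 h7 with h7 | h7
      · rcases hpr.dvd_mul.1 h7 with h7 | h7
        · rcases hpr.dvd_mul.1 h7 with h7 | h7
          · have := hpr.dvd_of_dvd_pow h7
            omega
          · omega
        · rcases hq with hq | hq | hq
          · exact hq1 hq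
          · rw [hq] at e3; norm_num at e3; omega
          · rw [hq] at e3; norm_num at e3; omega
      · rcases hq with hq | hq | hq
        · exact hq1 hq
        · rw [hq] at e4; norm_num at e4; omega
        · rw [hq] at e4; norm_num at e4; omega
    · rcases hq with hq | hq | hq
      · exact hq1 hq
      · rw [hq] at e6; norm_num at e6; omega
      · rw [hq] at e6; norm_num at e6; omega
  · rfl

end Main

end Cfsg.Agent.H969.TwF
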