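import Cfsg.Agent.H969.TwF.WSub
import Cfsg.Agent.H319.One.Line
import Cfsg.Agent.S2128

/-!
# Torus elements of `²F₄(q)` on the 26-dimensional submodule (helper969)

* `aut_eq` : the automorphisms; `fx_rho_aut` : `fx` of the 26-dimensional representation is invariant;
* `fx_x`, `fx_y` : the dimension of the fixed space is 6 for `h(1, z)` and 4 for `h(z, z)`, `z` of odd prime order.
-/

set_option autoImplicit false
set_option linter.unusedSectionVars false

namespace Cfsg.Agent.H969.TwF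

open Cfsg.Lie Cfsg.Agent.ChevStructure.FieldMap Cfsg.Agent.ChevalleyStructure.TwF4.Rel
  Cfsg.Agent.ChevalleyStructure.TwF4.TwistedFix Cfsg.Agent.Octagon.KRel Cfsg.Agent.KFacts.TwF4.Inst
  Cfsg.Agent.KFacts.TwF4 Cfsg.Agent.TitsThree.RankTwoZ Cfsg.Agent.H319.One
  Cfsg.Agent.ChevalleyStructure.TwF4.Torus Cfsg.Agent.ChevalleyStructure.TwF4.TwGen

section Fx

variable {F : Type*} [Field F] {ι : Type*} [Fintype ι] [DecidableEq ι]

/-- the fixed space of a diagonal matrix -/
theorem fx_diag [DecidableEq F] (w : ι → F) : fx (Matrix.diagonal w) = (Finset.univ.filter fun i => w i = 1).card := by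
  have h1 := fx_add_rank (Matrix.diagonal w)
  have h2 : (Matrix.diagonal w - 1 : Matrix ι ι F) = Matrix.diagonal fun i => w i - 1 := by
    rw [← Matrix.diagonal_one, Matrix.diagonal_sub]
  rw [h2, Matrix.rank_diagonal, Fintype.card_subtype] at h1
  have h3 : (Finset.univ.filter fun i => w i = 1).card + (Finset.univ.filter fun i => ¬ w i = 1).card =
      Fintype.card ι := Finset.card_filter_add_card_filter_not _
  have h4 : (Finset.univ.filter fun i => w i - 1 ≠ 0) = Finset.univ.filter fun i => ¬ w i = 1 := by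
    ext i
    simp [sub_eq_zero]
  rw [h4] at h1
  omega

end Fx

section Aut

variable {K : Type*} [Field K] [Fintype K] {m : ℕ}

/-- the automorphisms of `²F₄(q)` -/
theorem aut_eq (hm : 1 ≤ m) (hK : Fintype.card K = 2 ^ (2 * m + 1)) (α : MulAut ↥(twistedF4 K (2 ^ m))) :
    ∃ (k : ↥(twistedF4 K (2 ^ m))) (τ : K ≃+* K), α = MulAut.conj k * S2128.fld τ (2 ^ m) := by
  have hch : CharP K 2 := Cfsg.Agent.ChevalleyStructure.TwF4.Twisted.charP_two hK
  have hf2 : Fact (Nat.Prime 2) := ⟨Nat.prime_two⟩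
  obtain ⟨φ, hφ⟩ := exists_rln hK
  have hF : ∃ c : Kˣ, c ≠ 1 := by
    have h1 : 1 < Nat.card Kˣ := by
      rw [Nat.card_units, Nat.card_eq_fintype_card, hK]
      have : 2 ^ 3 ≤ 2 ^ (2 * m + 1) := Nat.pow_le_pow_right (by norm_num) (by omega)
      omega
    have : Nontrivial Kˣ := Finite.one_lt_card_iff_nontrivial.1 h1
    exact exists_ne 1
  obtain ⟨k, τ0, ho, he⟩ := AutNorm.aut_form (full hK hφ) hF rfl α
  obtain ⟨τ, hτ⟩ : ∃ τ : K ≃+* K, ∀ x, τ x = τ0 x :=
    ⟨RingEquiv.ofBijective τ0 (Finite.injective_iff_bijective.1 τ0.injective), fun _ => rfl⟩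
  refine ⟨k, τ, S2128.aut_ext (full hK hφ) ?_ ?_⟩
  · intro a t
    rw [ho, MulAut.mul_apply, MulAut.conj_apply, ← hτ]
    exact congrArg (fun y => k * y * k⁻¹) (S2128.fld_ro τ hφ a t).symm
  · intro a p u
    rw [he, MulAut.mul_apply, MulAut.conj_apply, ← hτ, ← hτ]
    exact congrArg (fun y => k * y * k⁻¹) (S2128.fld_re τ hφ a p u).symm

end Aut

section Rh

variable {K : Type*} [Field K] [Finite K] [CharP K 2]

/-- the representation of `²F₄(q)` of degree 26 -/
def rh (K : Type*) [Field K] [Finite K] [CharP K 2] (e : ℕ) : ↥(twistedF4 K e) →* GL WI K := rho (f4Words K e)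

theorem coe_rh (e : ℕ) (g : ↥(twistedF4 K e)) :
    ((rh K e g : GL WI K) : Matrix WI WI K) = sub ((g : GL chevF4.Idx K) : Matrix chevF4.Idx chevF4.Idx K) := rfl

theorem fx_rho_fld (τ : K ≃+* K) (e : ℕ) (x : ↥(twistedF4 K e)) :
    fx ((rh K e (S2128.fld τ e x) : GL WI K) : Matrix WI WI K) = fx ((rh K e x : GL WI K) : Matrix WI WI K) := by
  rw [coe_rh, coe_rh, S2128.coe_fld, glEquiv_coe, ← fx_map (τ : K →+* K) (sub ((x : GL chevF4.Idx K) : Matrix _ _ K))]
  rfl

end Rh

section Inv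

variable {K : Type*} [Field K] [Fintype K] [CharP K 2] {m : ℕ}

/-- the dimension of the fixed space is invariant under automorphisms -/
theorem fx_rho_aut (hm : 1 ≤ m) (hK : Fintype.card K = 2 ^ (2 * m + 1)) (α : MulAut ↥(twistedF4 K (2 ^ m)))
    (x : ↥(twistedF4 K (2 ^ m))) :
    fx ((rh K (2 ^ m) (α x) : GL WI K) : Matrix WI WI K) = fx ((rh K (2 ^ m) x : GL WI K) : Matrix WI WI K) := by
  obtain ⟨k, τ, rfl⟩ := aut_eq hm hK α
  rw [MulAut.mul_apply, MulAut.conj_apply, map_mul, map_mul, map_inv]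
  show fx (((rh K (2 ^ m) k : GL WI K) : Matrix WI WI K) * ((rh K (2 ^ m) (S2128.fld τ (2 ^ m) x) : GL WI K) :
    Matrix WI WI K) * (((rh K (2 ^ m) k)⁻¹ : GL WI K) : Matrix WI WI K)) = _
  rw [fx_conj, fx_rho_fld]

end Inv

section Tor

variable {K : Type*} [Field K] [Finite K] [CharP K 2] {φ : K →+* K} {e : ℕ}

theorem short_cases : ∀ s : Fin 48, sh s.val = true → (∃ a : ZMod 8, s.val = eA a) ∨ (∃ a : ZMod 8, s.val = eC a) ∨
    ∃ a : ZMod 8, s.val = oA a := by decide +kernel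

/-- the coordinates fixed by `h(1, z)` -/
def bx : chevF4.Idx → Bool
  | Sum.inl _ => true
  | Sum.inr s => s.val == 20 || s.val == 27 || s.val == 19 || s.val == 28

/-- the coordinates fixed by `h(z, z)` -/
def bz : chevF4.Idx → Bool
  | Sum.inl _ => true
  | Sum.inr s => s.val == 39 || s.val == 8

theorem card_bx : (Finset.univ.filter fun i : WI => bx i.1 = true).card = 6 := by decide +kernel
theorem card_bz : (Finset.univ.filter fun i : WI => bz i.1 = true).card = 4 := by decide +kernel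

/-- the images of the torus elements are diagonal -/
theorem coe_rh_hT (hφ : Rln φ e) (c d : Kˣ) : ∃ s t : Kˣ, ((rh K e (hT hφ c d) : GL WI K) : Matrix WI WI K) =
    Matrix.diagonal (fun j : WI => ((chiIdx (tc e s t) j.1 : Kˣ) : K)) ∧
    chi (tc e s t) (eA 0) = c ∧ chi (tc e s t) (eA 1) = d := by
  obtain ⟨s, t, h, h0, h1⟩ := hT_spec hφ c d
  refine ⟨s, t, ?_, h0, h1⟩
  rw [coe_rh, h, coe_T]
  ext i j
  show Matrix.diagonal (fun j => ((chiIdx (tc e s t) j : Kˣ) : K)) i.1 j.1 = _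
  by_cases hij : i = j
  · subst hij
    rw [Matrix.diagonal_apply_eq, Matrix.diagonal_apply_eq]
  · rw [Matrix.diagonal_apply_ne _ hij, Matrix.diagonal_apply_ne]
    intro h2
    exact hij (Subtype.ext h2)

/-- the number of fixed coordinates -/
theorem fx_hT (hφ : Rln φ e) (c d : Kˣ) (b : chevF4.Idx → Bool) (hl : ∀ i, b (Sum.inl i) = true)
    (hA : ∀ a : ZMod 8, ∀ s : Fin 48, s.val = eA a → (chE φ a c d = 1 ↔ b (Sum.inr s) = true))
    (hC : ∀ a : ZMod 8, ∀ s : Fin 48, s.val = eC a →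
      (chE φ a c d * Units.map (φ : K →* K) (chE φ a c d) = 1 ↔ b (Sum.inr s) = true))
    (hO : ∀ a : ZMod 8, ∀ s : Fin 48, s.val = oA a → (chO φ a c d = 1 ↔ b (Sum.inr s) = true)) :
    fx ((rh K e (hT hφ c d) : GL WI K) : Matrix WI WI K) = (Finset.univ.filter fun i : WI => b i.1 = true).card := by
  classical
  obtain ⟨s, t, h, h0, h1⟩ := coe_rh_hT hφ c d
  rw [h, fx_diag]
  congr 1
  ext i
  rw [Finset.mem_filter, Finset.mem_filter]
  simp only [Finset.mem_univ, true_and]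
  rw [Units.val_eq_one]
  obtain ⟨j, hj⟩ := i
  rcases j with j | j
  · rw [chiIdx_inl]
    exact ⟨fun _ => hl j, fun _ => rfl⟩
  · have hj' : sh j.val = true := hj
    rw [chiIdx_inr]
    rcases short_cases j hj' with ⟨a, ha⟩ | ⟨a, ha⟩ | ⟨a, ha⟩
    · rw [← hA a j ha]
      show chi (tc e s t) j.val = 1 ↔ _
      rw [ha, chi_eA hφ, h0, h1]
    · rw [← hC a j ha]
      show chi (tc e s t) j.val = 1 ↔ _
      obtain ⟨-, b2, -, b4, -, -⟩ := tabOk a
      rw [ha, chi_sum b4, chi_bar hφ b2, chi_eA hφ, h0, h1]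
    · rw [← hO a j ha]
      show chi (tc e s t) j.val = 1 ↔ _
      rw [ha, chi_oA hφ, h0, h1]

end Tor

end Cfsg.Agent.H969.TwF
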